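import Groth.Agent.CurveVBLib.Torsion
import Groth.Agent.CurveVBLib.Slope
import Groth.Agent.CurvLib.Divisor
import Groth.Agent.PnCohLib.FlatSections
import Groth.Agent.Ref1Lib.Ops
import Groth.Agent.ModSiteLib.PullTensorIso
import Groth.Prelude.Def_ParBun2

/-!
# Restriction of modules to a divisor on a curve
-/

set_option autoImplicit false
set_option linter.style.haveILetI false
set_option maxHeartbeats 1000000
universe u

open CategoryTheory CategoryTheory.Limits AlgebraicGeometry TopologicalSpace Opposite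
open DevissLib CurvLib CurveVBLib

noncomputable section

namespace ParGPLib

variable {X : Scheme.{u}}

/-- `- ⊗ Q`. -/
abbrev tensorRight' (Q : X.Modules) : X.Modules ⥤ X.Modules := (DCoh.tensorBi (X := X)).flip.obj Q

theorem isLeftAdjoint_tensorRight' (Q : X.Modules) : (tensorRight' Q).IsLeftAdjoint :=
  ModSiteLib.hasSheafHom X.sheaf Q

theorem additive_tensorRight' (Q : X.Modules) : (tensorRight' Q).Additive :=
  haveI := isLeftAdjoint_tensorRight' Q
  Functor.additive_of_preserves_binary_products _

theorem resDMap_eq (I : X.IdealSheafData) {M N : X.Modules} (φ : M ⟶ N) :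
    ParSh.resDMap I φ = (tensorRight' (ClSub.quotMod I)).map φ :=
  (KoszTw.tensorBi_map_app φ (ClSub.quotMod I)).symm

theorem subsingleton_stalk_resD (I : X.IdealSheafData) (M : X.Modules) {x : X}
    (hx : x ∉ (I.support : Set X)) : Subsingleton ((St x).obj (ParSh.resD I M)) := by
  haveI : Subsingleton ((St x).obj (ClSub.quotMod I)) :=
    not_not.mp fun h => hx (support_quotMod_subset I h)
  let e := LinearEquiv.ofBijective (KFlatLib.stalkTensorLin M (ClSub.quotMod I) x)
    (KFlatLib.stalkTensorLin_bijective M (ClSub.quotMod I) x)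
  have hz : ∀ z : TensorProduct (X.presheaf.stalk x) ((St x).obj M) ((St x).obj (ClSub.quotMod I)), z = 0 := fun z => by
    induction z using TensorProduct.induction_on with
    | zero => rfl
    | tmul a b => rw [Subsingleton.elim b 0, TensorProduct.tmul_zero]
    | add a b ha hb => rw [ha, hb, add_zero]
  exact ⟨fun a b => e.symm.injective ((hz _).trans (hz _).symm)⟩

theorem support_resD (I : X.IdealSheafData) (M : X.Modules) :
    CohB1.support (ParSh.resD I M) ⊆ (I.support : Set X) := fun x hx => by
  by_contra h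
  exact hx (subsingleton_stalk_resD I M h)

theorem isCoh_resD [IsLocallyNoetherian X] (I : X.IdealSheafData) {M : X.Modules} (hM : Coh.IsCoh M) :
    Coh.IsCoh (ParSh.resD I M) := by
  haveI := hM.1
  haveI := (isCoh_quotMod I).1
  obtain ⟨h1, h2⟩ := Groth.Agent.S2297.result M (ClSub.quotMod I)
  exact ⟨h1, h2 hM.2 (isCoh_quotMod I).2⟩

theorem dim_resD (hdim : topologicalKrullDim X ≤ 1) {I : X.IdealSheafData} (hD : FGA.IsEffCartier I)
    (M : X.Modules) : topologicalKrullDim (CohB1.support (ParSh.resD I M)) ≤ 0 :=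
  (Topology.IsEmbedding.inclusion (support_resD I M)).isInducing.topologicalKrullDim_le.trans
    (dim_support_effCartier hD hdim)

variable {k : Type u} [Field k] [X.Over (Spec (CommRingCat.of k))]

theorem hMap_add {M N : X.Modules} (φ ψ : M ⟶ N) (p : ℕ) (x : Coh.HH X M p) :
    hMap (k := k) (φ + ψ) p x = hMap (k := k) φ p x + hMap (k := k) ψ p x := by
  rw [hMap_apply, hMap_apply, hMap_apply, Functor.map_add]
  exact (congrArg (fun e => Abelian.Ext.comp x e (add_zero p)) (Abelian.Ext.mk₀_add _ _)).trans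
    (Abelian.Ext.comp_add ..)

theorem hMap_sub {M N : X.Modules} (φ ψ : M ⟶ N) (p : ℕ) (x : Coh.HH X M p) :
    hMap (k := k) (φ - ψ) p x = hMap (k := k) φ p x - hMap (k := k) ψ p x := by
  rw [eq_sub_iff_add_eq, ← hMap_add, sub_add_cancel]

theorem hMap_id_apply {M : X.Modules} (p : ℕ) (x : Coh.HH X M p) : hMap (k := k) (𝟙 M) p x = x := by
  rw [hMap_apply, CategoryTheory.Functor.map_id, Sheaf.H.map_id_apply]

variable (k) in
include k in
theorem subsingleton_HH_of_isZero {M : X.Modules} (hM : IsZero M) (p : ℕ) : Subsingleton (Coh.HH X M p) := by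
  refine ⟨fun a b => ?_⟩
  have h : ∀ x : Coh.HH X M p, x = 0 := fun x => by
    rw [← hMap_id_apply (k := k) p x, hM.eq_of_src (𝟙 M) (𝟙 M - 𝟙 M), hMap_sub, sub_self]
  rw [h a, h b]

variable [IsProper (X ↘ Spec (CommRingCat.of k))]

variable (k) in
include k in
theorem subsingleton_one {M : X.Modules} (hM : Coh.IsCoh M) (hd : topologicalKrullDim (CohB1.support M) ≤ 0) :
    Subsingleton (Coh.HH X M 1) :=
  haveI := CurvLib.isNoetherian k (X := X)
  subsingleton_HH_of_support_dim M hM.2 (d := 0) (by exact_mod_cast hd) 1 one_pos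

theorem support_subset_of_mono {A B : X.Modules} (i : A ⟶ B) [Mono i] :
    CohB1.support A ⊆ CohB1.support B := fun x hx => by
  by_contra h
  haveI : Subsingleton ((St x).obj B) := not_not.mp h
  have hi : Function.Injective ((St x).map i) := (ModuleCat.mono_iff_injective _).mp inferInstance
  exact hx hi.subsingleton

omit [IsProper (X ↘ Spec (CommRingCat.of k))] [X.Over (Spec (CommRingCat.of k))] [Field k] in
theorem dim_of_mono {A B : X.Modules} (i : A ⟶ B) [Mono i]
    (hd : topologicalKrullDim (CohB1.support B) ≤ 0) : topologicalKrullDim (CohB1.support A) ≤ 0 :=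
  (Topology.IsEmbedding.inclusion (support_subset_of_mono i)).isInducing.topologicalKrullDim_le.trans hd

/-- Global sections are exact on modules with zero-dimensional support. -/
theorem surjective_hMap_epi {A B : X.Modules} (π : A ⟶ B) [Epi π] (hA : Coh.IsCoh A)
    (hd : topologicalKrullDim (CohB1.support A) ≤ 0) (hB : Coh.IsCoh B) :
    Function.Surjective (hMap (k := k) π 0) := fun y => by
  haveI := CurvLib.isNoetherian k (X := X)
  have hS : (ShortComplex.mk (kernel.ι π) π (kernel.condition π)).ShortExact :=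
    ShortComplex.ShortExact.mk (ShortComplex.exact_kernel π)
  have h1 : Subsingleton (Coh.HH X (kernel π) 1) :=
    subsingleton_one k (QCohLib.isCoh_kernel π hA hB.1) (dim_of_mono (kernel.ι π) hd)
  have hy : y ∈ LinearMap.ker (hDel (k := k) hS 0) := LinearMap.mem_ker.2 (h1.elim _ _)
  rw [← exact₃ hS 0] at hy
  exact hy

theorem range_hMap {S : ShortComplex X.Modules} (hS : S.Exact) [Epi S.g] (h₁ : Coh.IsCoh S.X₁) (h₂ : Coh.IsCoh S.X₂)
    (h₃ : Coh.IsCoh S.X₃) (hd : topologicalKrullDim (CohB1.support S.X₁) ≤ 0) :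
    LinearMap.range (hMap (k := k) S.f 0) = LinearMap.ker (hMap (k := k) S.g 0) := by
  haveI := CurvLib.isNoetherian k (X := X)
  have hT : (ShortComplex.mk (kernel.ι S.g) S.g (kernel.condition S.g)).ShortExact :=
    ShortComplex.ShortExact.mk (ShortComplex.exact_kernel S.g)
  haveI : Epi (kernel.lift S.g S.f S.zero) := hS.epi_kernelLift
  have hs := surjective_hMap_epi (k := k) (kernel.lift S.g S.f S.zero) h₁ hd (QCohLib.isCoh_kernel S.g h₂ h₃.1)
  refine le_antisymm ?_ ?_
  · rintro _ ⟨x, rfl⟩
    rw [LinearMap.mem_ker, ← hMap_comp, S.zero, hMap_apply, Functor.map_zero]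
    exact (congrArg (fun e => Abelian.Ext.comp x e (add_zero 0)) (Abelian.Ext.mk₀_zero _ _)).trans
      (Abelian.Ext.comp_zero ..)
  · rw [← exact₂ hT 0]
    rintro _ ⟨y, rfl⟩
    obtain ⟨x, rfl⟩ := hs y
    exact ⟨x, (congrArg (fun φ => hMap (k := k) φ 0 x) (kernel.lift_ι S.g S.f S.zero).symm).trans
      (hMap_comp _ _ _ _)⟩

end ParGPLib

end
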