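import Groth.Agent.ParGPLib.Basic
import Mathlib.LinearAlgebra.FiniteDimensional.Lemmas

/-!
# The space of a generalised parabolic structure
-/

set_option autoImplicit false
set_option linter.style.haveILetI false
set_option maxHeartbeats 1000000
universe u

open CategoryTheory CategoryTheory.Limits AlgebraicGeometry TopologicalSpace Opposite
open DevissLib CurvLib CurveVBLib

noncomputable section

namespace ParGPLib

theorem finrank_le_map_add {K V W : Type*} [Field K] [AddCommGroup V] [Module K V] [AddCommGroup W] [Module K W]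
    [FiniteDimensional K V] (f : V →ₗ[K] W) (S : Submodule K V) :
    Module.finrank K S ≤ Module.finrank K (S.map f) + Module.finrank K (S ⊓ LinearMap.ker f : Submodule K V) := by
  have h := (f.domRestrict S).finrank_range_add_finrank_ker
  rw [show LinearMap.range (f.domRestrict S) = S.map f from LinearMap.range_domRestrict S f] at h
  have e : Module.finrank K (LinearMap.ker (f.domRestrict S)) =
      Module.finrank K (S ⊓ LinearMap.ker f : Submodule K V) := by
    rw [← Submodule.finrank_map_subtype_eq S (LinearMap.ker (f.domRestrict S))]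
    refine congrArg (fun T : Submodule K V => Module.finrank K T) (Submodule.ext fun v => ?_)
    constructor
    · rintro ⟨⟨w, hw⟩, hk, rfl⟩
      exact ⟨hw, hk⟩
    · rintro ⟨hw, hk⟩
      exact ⟨⟨v, hw⟩, hk, rfl⟩
  omega

variable {X : Scheme.{u}} {k : Type u} [Field k] [X.Over (Spec (CommRingCat.of k))] {I : X.IdealSheafData}

theorem fibDMap_eq {M N : X.Modules} (φ : M ⟶ N) :
    ParSh.fibDMap k X I φ = hMap (k := k) ((tensorRight' (ClSub.quotMod I)).map φ) 0 := by
  rw [← resDMap_eq]
  rfl

theorem fibDMap_hMap {M N : X.Modules} (φ : M ⟶ N) :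
    ParSh.fibDMap k X I φ = hMap (k := k) (ParSh.resDMap I φ) 0 := rfl

theorem fibDMap_comp {M N L : X.Modules} (φ : M ⟶ N) (ψ : N ⟶ L) (x : ParSh.fibD X I M) :
    ParSh.fibDMap k X I (φ ≫ ψ) x = ParSh.fibDMap k X I ψ (ParSh.fibDMap k X I φ x) := by
  rw [fibDMap_eq, fibDMap_eq, fibDMap_eq, Functor.map_comp]
  exact hMap_comp _ _ _ _

theorem fibDMap_id {M : X.Modules} (x : ParSh.fibD X I M) : ParSh.fibDMap k X I (𝟙 M) x = x := by
  rw [fibDMap_eq, CategoryTheory.Functor.map_id]
  exact hMap_id_apply _ _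

theorem fibDMap_sub {M N : X.Modules} (φ ψ : M ⟶ N) (x : ParSh.fibD X I M) :
    ParSh.fibDMap k X I (φ - ψ) x = ParSh.fibDMap k X I φ x - ParSh.fibDMap k X I ψ x := by
  haveI := additive_tensorRight' (ClSub.quotMod I)
  rw [fibDMap_eq, fibDMap_eq, fibDMap_eq, Functor.map_sub]
  exact hMap_sub _ _ _ _

theorem fibDMap_smul {M : X.Modules} (c : k) (x : ParSh.fibD X I M) :
    ParSh.fibDMap k X I (StabLib.smulHom M (Coh.toGlobal (X ↘ Spec (CommRingCat.of k)) c)) x = c • x := by
  have e : ParSh.resDMap I (StabLib.smulHom M (Coh.toGlobal (X ↘ Spec (CommRingCat.of k)) c)) =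
      StabLib.smulHom (ParSh.resD I M) (Coh.toGlobal (X ↘ Spec (CommRingCat.of k)) c) :=
    (resDMap_eq I _).trans (PnCohLib.whisk_smulHom M (ClSub.quotMod I) _)
  unfold ParSh.fibDMap
  rw [e]
  rfl

theorem fibDMap_bijective {M N : X.Modules} (φ : M ⟶ N) [IsIso φ] :
    Function.Bijective (ParSh.fibDMap k X I φ) :=
  ⟨fun a b h => by rw [← fibDMap_id (k := k) a, ← fibDMap_id (k := k) b, ← IsIso.hom_inv_id φ, fibDMap_comp,
      fibDMap_comp, h],
    fun y => ⟨ParSh.fibDMap k X I (inv φ) y, by rw [← fibDMap_comp, IsIso.inv_hom_id, fibDMap_id]⟩⟩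

theorem subsingleton_fibD_of_isZero (k : Type u) [Field k] [X.Over (Spec (CommRingCat.of k))] {M : X.Modules}
    (hM : IsZero M) : Subsingleton (ParSh.fibD X I M) := by
  haveI := additive_tensorRight' (ClSub.quotMod I)
  refine ⟨fun a b => ?_⟩
  have h : ∀ x : ParSh.fibD X I M, x = 0 := fun x => by
    rw [← fibDMap_id (k := k) x, hM.eq_of_src (𝟙 M) (𝟙 M - 𝟙 M), fibDMap_sub, sub_self]
  rw [h a, h b]

variable [IsIntegral X] [IsProper (X ↘ Spec (CommRingCat.of k))] (hdim : topologicalKrullDim X = 1)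
  (hD : FGA.IsEffCartier I)

include hdim hD

theorem finite_fibD {M : X.Modules} (hM : Coh.IsCoh M) : Module.Finite k (ParSh.fibD X I M) :=
  haveI := CurvLib.isNoetherian k (X := X)
  finite_HH (k := k) (isCoh_resD I hM) 0

theorem finrank_fibD {n : ℕ} {E : X.Modules} (hE : FlatMod.IsFinLocFreeOfRank n E) :
    (Module.finrank k (ParSh.fibD X I E) : ℤ) = n * (Module.finrank k (Coh.HH X (ClSub.quotMod I) 0) : ℤ) := by
  haveI := CurvLib.isNoetherian k (X := X)
  have hQ := isCoh_quotMod I
  have hdQ : topologicalKrullDim (CohB1.support (ClSub.quotMod I)) ≤ 0 :=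
    (Topology.IsEmbedding.inclusion (support_quotMod_subset I)).isInducing.topologicalKrullDim_le.trans
      (dim_support_effCartier hD hdim.le)
  have h1 := euler_tensor_locFree_of_dim_zero (k := k) hQ hdQ hE
  let sw : ParSh.resD I E ≅ CohB1.tensorMod (ClSub.quotMod I) E := KFlatLib.tensSwap (ClSub.quotMod I) E
  rw [euler_eq_h0 hQ hdQ, ← euler_congr (k := k) sw,
    euler_eq_h0 (isCoh_resD I (isCoh_of_locFree hE)) (dim_resD hdim.le hD E)] at h1
  exact h1

theorem surjective_fibDMap {M N : X.Modules} (π : M ⟶ N) [Epi π] (hM : Coh.IsCoh M) (hN : Coh.IsCoh N) :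
    Function.Surjective (ParSh.fibDMap k X I π) := by
  haveI := CurvLib.isNoetherian k (X := X)
  haveI := isLeftAdjoint_tensorRight' (ClSub.quotMod I)
  rw [fibDMap_eq]
  haveI : Epi ((tensorRight' (ClSub.quotMod I)).map π) := Functor.map_epi _ π
  exact surjective_hMap_epi _ (isCoh_resD I hM) (dim_resD hdim.le hD M) (isCoh_resD I hN)

/-- The spaces of parabolic structures are right exact. -/
theorem range_fibDMap {A B C : X.Modules} (φ : A ⟶ B) (π : B ⟶ C) (w : φ ≫ π = 0) [Epi π]
    (hex : (ShortComplex.mk φ π w).Exact) (hA : Coh.IsCoh A) (hB : Coh.IsCoh B) (hC : Coh.IsCoh C) :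
    LinearMap.range (ParSh.fibDMap k X I φ) = LinearMap.ker (ParSh.fibDMap k X I π) := by
  haveI := CurvLib.isNoetherian k (X := X)
  let G := tensorRight' (ClSub.quotMod I)
  haveI : G.IsLeftAdjoint := isLeftAdjoint_tensorRight' (ClSub.quotMod I)
  haveI : G.Additive := additive_tensorRight' (ClSub.quotMod I)
  haveI : PreservesFiniteColimits G := PreservesColimitsOfSize.preservesFiniteColimits G
  have h := hex.map_of_epi_of_preservesCokernel G (inferInstanceAs (Epi π)) inferInstance
  have w' : ParSh.resDMap I φ ≫ ParSh.resDMap I π = 0 := by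
    rw [resDMap_eq, resDMap_eq]
    exact ((ShortComplex.mk φ π w).map G).zero
  let e : (ShortComplex.mk φ π w).map G ≅ ShortComplex.mk (ParSh.resDMap I φ) (ParSh.resDMap I π) w' :=
    ShortComplex.isoMk (Iso.refl (ParSh.resD I A)) (Iso.refl (ParSh.resD I B)) (Iso.refl (ParSh.resD I C))
      ((Category.id_comp _).trans ((resDMap_eq I φ).trans (Category.comp_id _).symm))
      ((Category.id_comp _).trans ((resDMap_eq I π).trans (Category.comp_id _).symm))
  haveI : Epi (ShortComplex.mk (ParSh.resDMap I φ) (ParSh.resDMap I π) w').g := by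
    show Epi (ParSh.resDMap I π)
    rw [resDMap_eq]
    exact Functor.map_epi G π
  rw [fibDMap_hMap, fibDMap_hMap]
  exact range_hMap (k := k) (S := ShortComplex.mk (ParSh.resDMap I φ) (ParSh.resDMap I π) w')
    (ShortComplex.exact_of_iso e h) (isCoh_resD I hA) (isCoh_resD I hB) (isCoh_resD I hC)
    (dim_resD hdim.le hD A)

omit hdim hD in
theorem exists_epi_resD (I : X.IdealSheafData) (C : X.Modules) : ∃ p : C ⟶ ParSh.resD I C, Epi p := by
  haveI hL : (tensorLeft' C).IsLeftAdjoint := ModSiteLib.isLeftAdjoint_tensor C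
  haveI : Epi (idealSeq I).g := (idealSeq_shortExact I).epi_g
  haveI h2 : Epi ((idealSeq I).map (tensorLeft' C)).g := Functor.map_epi (tensorLeft' C) (idealSeq I).g
  let a : C ⟶ ((idealSeq I).map (tensorLeft' C)).X₂ :=
    (KFlatLib.tensSwap (Coh.structureModule X) C ≪≫ KFlatLib.tensUnitIso C).inv
  haveI h1 : Epi a := inferInstanceAs (Epi (KFlatLib.tensSwap (Coh.structureModule X) C ≪≫ KFlatLib.tensUnitIso C).inv)
  exact ⟨(a ≫ ((idealSeq I).map (tensorLeft' C)).g : C ⟶ ((idealSeq I).map (tensorLeft' C)).X₃),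
    @epi_comp _ _ _ _ _ a h1 _ h2⟩

theorem finrank_fibD_le_dg {C : X.Modules} (hC : Coh.IsCoh C) (h0 : genRank C = 0) :
    (Module.finrank k (ParSh.fibD X I C) : ℤ) ≤ dg k C := by
  haveI := CurvLib.isNoetherian k (X := X)
  letI : Field (X.presheaf.stalk (genericPoint X)) := (inferInstance : Field X.functionField)
  haveI := DevissLib.isNoetherian_stalk hC (genericPoint X)
  have hη : genericPoint X ∉ CohB1.support C := fun hx => hx (
    haveI : Module.Finite (X.presheaf.stalk (genericPoint X)) (C.presheaf.stalk (genericPoint X)) :=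
      inferInstanceAs (Module.Finite _ ((St (genericPoint X)).obj C))
    (Module.finrank_zero_iff (R := X.presheaf.stalk (genericPoint X))).mp h0)
  have hd : topologicalKrullDim (CohB1.support C) ≤ 0 :=
    CurvLib.topologicalKrullDim_le_zero_of_lt hdim (QCohLib.isClosed_support _ hC.2)
      (fun he => hη (he ▸ Set.mem_univ _))
  have he : dg k C = (Module.finrank k (Coh.HH X C 0) : ℤ) := by
    simp [dg, h0, euler_eq_h0 (k := k) hC hd]
  rw [he, Nat.cast_le]
  haveI := finite_HH (k := k) hC 0
  obtain ⟨p, hp⟩ := exists_epi_resD I C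
  exact LinearMap.finrank_le_finrank_of_surjective
    (@surjective_hMap_epi X k _ _ _ C (ParSh.resD I C) p hp hC hd (isCoh_resD I hC))

/-- The kernel of the map of fibres of a generic isomorphism is bounded by the drop of degree. -/
theorem finrank_ker_le [Smooth (X ↘ Spec (CommRingCat.of k))] {n : ℕ} {A B : X.Modules}
    (hA : FlatMod.IsFinLocFreeOfRank n A) (hB : FlatMod.IsFinLocFreeOfRank n B) (f : A ⟶ B) [Mono f] :
    (Module.finrank k (LinearMap.ker (ParSh.fibDMap k X I f)) : ℤ) ≤ dg k B - dg k A := by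
  haveI := CurvLib.isNoetherian k (X := X)
  have hAc := isCoh_of_locFree hA
  have hBc := isCoh_of_locFree hB
  obtain ⟨-, hC, hrk, hdg, -⟩ := sub_data (k := k) hdim hB f hAc
  rw [genRank_eq hA] at hrk
  haveI := finite_fibD (k := k) hdim hD hAc
  haveI := finite_fibD (k := k) hdim hD hBc
  have h1 := range_fibDMap (k := k) hdim hD f (cokernel.π f) (cokernel.condition f)
    (ShortComplex.exact_of_g_is_cokernel _ (cokernelIsCokernel f)) hAc hBc hC
  have h2 := LinearMap.finrank_range_add_finrank_ker (ParSh.fibDMap k X I f)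
  have h3 := LinearMap.finrank_range_add_finrank_ker (ParSh.fibDMap k X I (cokernel.π f))
  have h4 := surjective_fibDMap (k := k) hdim hD (cokernel.π f) hBc hC
  rw [LinearMap.range_eq_top.mpr h4, finrank_top, ← h1] at h3
  have h5 := finrank_fibD_le_dg (k := k) hdim hD hC (by omega)
  have h6 := finrank_fibD (k := k) hdim hD hA
  have h7 := finrank_fibD (k := k) hdim hD hB
  omega

end ParGPLib

end
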