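import Groth.Agent.ParGPLib.Slope
import Mathlib.RingTheory.Coprime.Lemmas

/-!
# Weights close to one
-/

set_option autoImplicit false
set_option linter.style.haveILetI false
set_option maxHeartbeats 1000000
universe u

open CategoryTheory CategoryTheory.Limits AlgebraicGeometry TopologicalSpace Opposite
open DevissLib CurvLib CurveVBLib

noncomputable section

namespace ParGPLib

variable {X : Scheme.{u}} {k : Type u} [Field k] [X.Over (Spec (CommRingCat.of k))] [IsIntegral X]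
  [IsProper (X ↘ Spec (CommRingCat.of k))] [Smooth (X ↘ Spec (CommRingCat.of k))]
  {I : X.IdealSheafData} (hdim : topologicalKrullDim X = 1) (hD : FGA.IsEffCartier I)
  {n : ℕ} {E : X.Modules} (hE : FlatMod.IsFinLocFreeOfRank n E) {S : Submodule k (ParSh.fibD X I E)}

include hdim hD hE

/-- A submodule has rank at most the rank, and full-rank submodules satisfy the inequality. -/
theorem full_rank_le {α : ℝ} (hα0 : 0 ≤ α) (hα1 : α ≤ 1) {F : X.Modules} {r : ℕ}
    (hF : FlatMod.IsFinLocFreeOfRank r F) (i : F ⟶ E) [Mono i] :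
    r ≤ n ∧ (r = n → gd α (S.comap (ParSh.fibDMap k X I i)) ≤ gd α S) := by
  obtain ⟨-, -, hrk, -, -⟩ := sub_data (k := k) hdim hE i (isCoh_of_locFree hF)
  rw [genRank_eq hF] at hrk
  refine ⟨by omega, fun he => ?_⟩
  subst he
  have h1 := gd_le_of_mono hdim hD hα0 hF hE i (Submodule.map_comap_le (ParSh.fibDMap k X I i) S)
  have h2 : (dg k F : ℝ) ≤ dg k E := by exact_mod_cast (dg_le_of_mono (k := k) hdim hD hF hE i).1
  have h3 : 0 ≤ (1 - α) * ((dg k E : ℝ) - dg k F) := mul_nonneg (by linarith) (by linarith)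
  linarith

theorem stable_semistable' {α : ℝ} (hα0 : 0 ≤ α) (hα1 : α ≤ 1) (hst : ParSh.IsGPStable k X I α S n) :
    ParSh.IsGPSemistable k X I α S n := by
  intro F r i hi hr hF
  obtain ⟨hle, hfull⟩ := full_rank_le hdim hD hE (S := S) hα0 hα1 hF i
  rcases hle.lt_or_eq with hlt | rfl
  · exact (hst F r i hi hr hlt hF).le
  · rw [gpDeg_eq hF, gpDeg_eq hE]
    exact mul_le_mul_of_nonneg_right (hfull rfl) (Nat.cast_nonneg _)

variable {d : ℕ} (hdegD : ∀ (G : X.Modules) (r : ℕ), FlatMod.IsFinLocFreeOfRank r G →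
  Module.finrank k (ParSh.fibD X I G) = r * d)

include hdegD

theorem finrank_bounds {F : X.Modules} {r : ℕ} (hF : FlatMod.IsFinLocFreeOfRank r F) (i : F ⟶ E) :
    (Module.finrank k (S.comap (ParSh.fibDMap k X I i)) : ℝ) ≤ r * d ∧ (Module.finrank k S : ℝ) ≤ n * d := by
  haveI := finite_fibD (k := k) hdim hD (isCoh_of_locFree hF)
  haveI := finite_fibD (k := k) hdim hD (isCoh_of_locFree hE)
  have h1 := Submodule.finrank_le (S.comap (ParSh.fibDMap k X I i))
  have h2 := Submodule.finrank_le S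
  rw [hdegD F r hF] at h1
  rw [hdegD E n hE] at h2
  exact ⟨by exact_mod_cast h1, by exact_mod_cast h2⟩

variable (hd : 0 < d) (hn : 2 ≤ n) {α : ℝ} (hα0 : 0 ≤ α) (hα1 : α < 1)
  (hα : 1 - 1 / ((d : ℝ) * (n : ℝ) * ((n : ℝ) - 1)) < α)

omit hdim hD hE hdegD in
include hd hn hα in
theorem weight_gap {r : ℕ} (hr : r < n) (hα1 : α < 1) : (1 - α) * ((r : ℝ) * d * n) < 1 := by
  have hn' : (2 : ℝ) ≤ n := by exact_mod_cast hn
  have hd' : (0 : ℝ) < d := by exact_mod_cast hd
  have hr' : (r : ℝ) + 1 ≤ n := by exact_mod_cast hr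
  have hpos : (0 : ℝ) < (d : ℝ) * n * (n - 1) := mul_pos (mul_pos hd' (by linarith)) (by linarith)
  have h1 : (1 - α) * ((d : ℝ) * n * (n - 1)) < 1 := (lt_div_iff₀ hpos).1 (by linarith)
  have h2 : (r : ℝ) * d * n ≤ (d : ℝ) * n * (n - 1) := by
    have := mul_le_mul_of_nonneg_left (show (r : ℝ) ≤ n - 1 by linarith) (mul_nonneg hd'.le (show (0:ℝ) ≤ n by linarith))
    linarith
  exact lt_of_le_of_lt (mul_le_mul_of_nonneg_left h2 (by linarith)) h1

include hd hn hα0 hα1 hα

theorem semistable_one (hss : ParSh.IsGPSemistable k X I α S n) : ParSh.IsGPSemistable k X I 1 S n := by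
  intro F r i hi hr hF
  obtain ⟨hle, hfull⟩ := full_rank_le hdim hD hE (S := S) zero_le_one le_rfl hF i
  rw [gpDeg_eq hF, gpDeg_eq hE]
  rcases hle.lt_or_eq with hlt | rfl
  · have h1 := hss F r i hi hr hF
    rw [gpDeg_eq hF, gpDeg_eq hE] at h1
    obtain ⟨ha, -⟩ := finrank_bounds hdim hD hE (S := S) hdegD hF i
    have h2 := weight_gap hd hn hα hlt hα1
    change gd α (S.comap (ParSh.fibDMap k X I i)) * (n : ℝ) ≤ _ at h1
    change gd 1 (S.comap (ParSh.fibDMap k X I i)) * (n : ℝ) ≤ _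
    simp only [gd, one_mul] at h1 ⊢
    generalize Module.finrank k (S.comap (ParSh.fibDMap k X I i)) = a at ha h1 ⊢
    generalize Module.finrank k S = b at h1 ⊢
    have h3 : (0 : ℝ) ≤ (1 - α) * ((b : ℝ) * r) := mul_nonneg (by linarith) (by positivity)
    have h4 : (1 - α) * ((a : ℝ) * n) ≤ (1 - α) * ((r : ℝ) * d * n) :=
      mul_le_mul_of_nonneg_left (mul_le_mul_of_nonneg_right ha (Nat.cast_nonneg _)) (by linarith)
    have h5 : (((dg k F + a) * n - (dg k E + b) * r : ℤ) : ℝ) < 1 := by push_cast; linarith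
    have h6 : ((dg k F + a) * n - (dg k E + b) * r : ℤ) < 1 := by exact_mod_cast h5
    have h7 : (((dg k F + a) * n - (dg k E + b) * r : ℤ) : ℝ) ≤ 0 := by exact_mod_cast (Int.lt_add_one_iff.1 h6)
    push_cast at h7
    linarith
  · exact mul_le_mul_of_nonneg_right (hfull rfl) (Nat.cast_nonneg _)

theorem stable_of_one (hst : ParSh.IsGPStable k X I 1 S n) : ParSh.IsGPStable k X I α S n := by
  intro F r i hi hr hlt hF
  have h1 := hst F r i hi hr hlt hF
  rw [gpDeg_eq hF, gpDeg_eq hE] at h1 ⊢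
  obtain ⟨-, hb⟩ := finrank_bounds hdim hD hE (S := S) hdegD hF i
  have h2 := weight_gap hd hn hα hlt hα1
  change gd 1 (S.comap (ParSh.fibDMap k X I i)) * (n : ℝ) < _ at h1
  change gd α (S.comap (ParSh.fibDMap k X I i)) * (n : ℝ) < _
  simp only [gd, one_mul] at h1 ⊢
  generalize Module.finrank k (S.comap (ParSh.fibDMap k X I i)) = a at h1 ⊢
  generalize Module.finrank k S = b at hb h1 ⊢
  have h3 : (0 : ℝ) ≤ (1 - α) * ((a : ℝ) * n) := mul_nonneg (by linarith) (by positivity)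
  have h4 : (1 - α) * ((b : ℝ) * r) ≤ (1 - α) * ((r : ℝ) * d * n) := by
    refine mul_le_mul_of_nonneg_left ?_ (by linarith)
    have := mul_le_mul_of_nonneg_right hb (Nat.cast_nonneg (α := ℝ) r)
    linarith
  have h5 : (((dg k F + a) * n - (dg k E + b) * r : ℤ) : ℝ) < 0 := by push_cast; linarith
  have h6 : ((dg k F + a) * n - (dg k E + b) * r : ℤ) ≤ -1 := by
    have : ((dg k F + a) * n - (dg k E + b) * r : ℤ) < 0 := by exact_mod_cast h5
    omega
  have h7 : (((dg k F + a) * n - (dg k E + b) * r : ℤ) : ℝ) ≤ -1 := by exact_mod_cast h6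
  push_cast at h7
  linarith

omit hd hn hα0 hα1 hα hdegD in
theorem stable_one_of_coprime (hcop : IsCoprime (n : ℤ) (Curv2.deg k X E n)) (a₀ : ℕ)
    (ha : Module.finrank k S = a₀ * n) (hss : ParSh.IsGPSemistable k X I 1 S n) :
    ParSh.IsGPStable k X I 1 S n := by
  intro F r i hi hr hlt hF
  have h1 := hss F r i hi hr hF
  refine h1.lt_of_ne fun he => ?_
  rw [gpDeg_eq hF, gpDeg_eq hE] at he
  rw [deg_eq_dg hE] at hcop
  simp only [gd, one_mul, ha, ParSh.gpInduced] at he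
  obtain ⟨a, h2⟩ : ∃ a : ℤ, (dg k F + a) * n = (dg k E + ((a₀ * n : ℕ) : ℤ)) * r :=
    ⟨_, by exact_mod_cast he⟩
  have h3 : (n : ℤ) ∣ (r : ℤ) * dg k E := ⟨dg k F + a - a₀ * r, by push_cast at h2; linear_combination -h2⟩
  have h4 := Int.le_of_dvd (by exact_mod_cast hr) (hcop.dvd_of_dvd_mul_right h3)
  omega

end ParGPLib

end
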