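import Groth.Agent.ParGPLib.Fib
import Groth.Agent.CurveVBLib.Abelian
import Mathlib.Data.Real.Basic
import Mathlib.Tactic.Linarith
import Mathlib.Tactic.Positivity

/-!
# Slopes of generalised parabolic bundles
-/

set_option autoImplicit false
set_option linter.style.haveILetI false
set_option maxHeartbeats 1000000
universe u

open CategoryTheory CategoryTheory.Limits AlgebraicGeometry TopologicalSpace Opposite
open DevissLib CurvLib CurveVBLib

noncomputable section

namespace ParGPLib

variable {X : Scheme.{u}} {k : Type u} [Field k] [X.Over (Spec (CommRingCat.of k))] [IsIntegral X]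
  {I : X.IdealSheafData} {α : ℝ}

/-- The parabolic degree with the generic rank. -/
def gd (α : ℝ) {E : X.Modules} (S : Submodule k (ParSh.fibD X I E)) : ℝ :=
  (dg k E : ℝ) + α * (Module.finrank k S : ℝ)

theorem gpDeg_eq {n : ℕ} {E : X.Modules} (hE : FlatMod.IsFinLocFreeOfRank n E) (S : Submodule k (ParSh.fibD X I E)) :
    ParSh.gpDeg k X α E S n = gd α S := by
  rw [ParSh.gpDeg, ParSh.gpWt, deg_eq_dg hE]
  rfl

variable [IsProper (X ↘ Spec (CommRingCat.of k))] [Smooth (X ↘ Spec (CommRingCat.of k))]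
  (hdim : topologicalKrullDim X = 1) (hD : FGA.IsEffCartier I)

include hdim hD

/-- A generic isomorphism raises the parabolic degree, strictly unless the degrees agree. -/
theorem gd_le_of_mono (hα0 : 0 ≤ α) {n : ℕ} {A B : X.Modules} (hA : FlatMod.IsFinLocFreeOfRank n A)
    (hB : FlatMod.IsFinLocFreeOfRank n B) (f : A ⟶ B) [Mono f] {S : Submodule k (ParSh.fibD X I A)}
    {S' : Submodule k (ParSh.fibD X I B)} (hS : S.map (ParSh.fibDMap k X I f) ≤ S') :
    gd α S + (1 - α) * ((dg k B : ℝ) - dg k A) ≤ gd α S' := by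
  haveI := finite_fibD (k := k) hdim hD (isCoh_of_locFree hA)
  haveI := finite_fibD (k := k) hdim hD (isCoh_of_locFree hB)
  have h1 := finrank_le_map_add (ParSh.fibDMap k X I f) S
  have h2 := Submodule.finrank_mono hS
  have h3 : Module.finrank k (S ⊓ LinearMap.ker (ParSh.fibDMap k X I f) : Submodule k (ParSh.fibD X I A)) ≤
      Module.finrank k (LinearMap.ker (ParSh.fibDMap k X I f)) := Submodule.finrank_mono inf_le_right
  have h4 := finrank_ker_le (k := k) hdim hD hA hB f
  have h5 : (Module.finrank k S : ℤ) ≤ Module.finrank k S' + (dg k B - dg k A) := by omega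
  have h6 : (Module.finrank k S : ℝ) ≤ Module.finrank k S' + ((dg k B : ℝ) - dg k A) := by exact_mod_cast h5
  have h7 := mul_le_mul_of_nonneg_left h6 hα0
  simp only [gd]
  linarith

theorem dg_le_of_mono {n : ℕ} {A B : X.Modules} (hA : FlatMod.IsFinLocFreeOfRank n A)
    (hB : FlatMod.IsFinLocFreeOfRank n B) (f : A ⟶ B) [Mono f] :
    dg k A ≤ dg k B ∧ (dg k A = dg k B → IsIso f) := by
  obtain ⟨-, hC, hrk, hdg, -⟩ := sub_data (k := k) hdim hB f (isCoh_of_locFree hA)
  rw [genRank_eq hA] at hrk
  obtain ⟨hnn, heq⟩ := dg_nonneg_of_rank_zero (k := k) hdim hC (by omega)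
  refine ⟨by omega, fun he => ?_⟩
  have hz : IsZero (cokernel f) := heq (by omega)
  haveI : Epi f := Preadditive.epi_of_cancel_zero _ fun g hg => by
    rw [← cokernel.π_desc _ g hg, hz.eq_of_src (cokernel.desc _ g hg) 0, comp_zero]
  exact isIso_of_mono_of_epi f

theorem gd_mono_eq_iff (hα0 : 0 ≤ α) (hα1 : α < 1) {n : ℕ} {A B : X.Modules} (hA : FlatMod.IsFinLocFreeOfRank n A)
    (hB : FlatMod.IsFinLocFreeOfRank n B) (f : A ⟶ B) [Mono f] {S : Submodule k (ParSh.fibD X I A)}
    {S' : Submodule k (ParSh.fibD X I B)} (hS : S.map (ParSh.fibDMap k X I f) ≤ S') :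
    gd α S ≤ gd α S' ∧ (gd α S = gd α S' ↔ (IsIso f ∧ (0 < α → S.map (ParSh.fibDMap k X I f) = S'))) := by
  haveI := finite_fibD (k := k) hdim hD (isCoh_of_locFree hA)
  haveI := finite_fibD (k := k) hdim hD (isCoh_of_locFree hB)
  have h1 := gd_le_of_mono hdim hD hα0 hA hB f hS
  obtain ⟨h2, h3⟩ := dg_le_of_mono (k := k) hdim hD hA hB f
  have h2' : (0 : ℝ) ≤ (dg k B : ℝ) - dg k A := by
    have : (dg k A : ℝ) ≤ dg k B := by exact_mod_cast h2
    linarith
  have h4 : 0 ≤ (1 - α) * ((dg k B : ℝ) - dg k A) := mul_nonneg (by linarith) h2'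
  refine ⟨by linarith, fun he => ?_, fun ⟨hi, hm⟩ => ?_⟩
  · have h5 : (1 - α) * ((dg k B : ℝ) - dg k A) = 0 := le_antisymm (by linarith) h4
    have h6 : (dg k B : ℝ) - dg k A = 0 := (mul_eq_zero.1 h5).resolve_left (by linarith)
    have h7 : dg k A = dg k B := by
      have : (dg k A : ℝ) = dg k B := by linarith
      exact_mod_cast this
    haveI := h3 h7
    refine ⟨this, fun hα => Submodule.eq_of_le_of_finrank_le hS ?_⟩
    have h8 : α * (Module.finrank k S : ℝ) = α * (Module.finrank k S' : ℝ) := by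
      simp only [gd, h7] at he
      linarith
    have h9 : Module.finrank k S = Module.finrank k S' := by
      exact_mod_cast mul_left_cancel₀ hα.ne' h8
    rw [← h9]
    exact le_of_eq (Submodule.equivMapOfInjective _ (fibDMap_bijective (k := k) f).1 S).finrank_eq
  · haveI := hi
    have h7 : dg k A = dg k B := by
      obtain ⟨-, -, -, hdg, -⟩ := sub_data (k := k) hdim hB f (isCoh_of_locFree hA)
      rw [dg_of_isZero (isZero_cokernel_of_epi f)] at hdg
      omega
    rcases hα0.eq_or_lt with h0 | hpos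
    · simp only [gd, h7, ← h0, zero_mul]
    · have h8 : Module.finrank k S = Module.finrank k S' := by
        rw [← hm hpos]
        exact (Submodule.equivMapOfInjective _ (fibDMap_bijective (k := k) f).1 S).finrank_eq
      simp only [gd, h7, h8]

variable {n : ℕ} {E : X.Modules} (hE : FlatMod.IsFinLocFreeOfRank n E) {S : Submodule k (ParSh.fibD X I E)}

include hE

/-- The semistability inequality for all coherent submodules. -/
theorem sub_le' (hss : ParSh.IsGPSemistable k X I α S n) {G : X.Modules} (i : G ⟶ E) [Mono i] (hG : Coh.IsCoh G) :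
    gd α (S.comap (ParSh.fibDMap k X I i)) * (n : ℝ) ≤ gd α S * (genRank G : ℝ) := by
  obtain ⟨hGr, -, -, -, hz⟩ := sub_data (k := k) hdim hE i hG
  rcases Nat.eq_zero_or_pos (genRank G) with h0 | hpos
  · haveI := subsingleton_fibD_of_isZero (I := I) k (hz h0)
    simp [gd, dg_of_isZero (hz h0), h0, Module.finrank_zero_of_subsingleton]
  · have := hss G (genRank G) i inferInstance hpos hGr
    rwa [gpDeg_eq hGr, gpDeg_eq hE] at this

/-- The parabolic degree is subadditive along kernel and image of a parabolic map. -/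
theorem gd_le_ker_add_im (hα0 : 0 ≤ α) {F : X.Modules} (hF : Coh.IsCoh F) {S' : Submodule k (ParSh.fibD X I F)}
    (f : E ⟶ F) (hf : S.map (ParSh.fibDMap k X I f) ≤ S') :
    gd α S ≤ gd α (S.comap (ParSh.fibDMap k X I (kernel.ι f))) +
      gd α (S'.comap (ParSh.fibDMap k X I (Abelian.image.ι f))) := by
  have hEc := isCoh_of_locFree hE
  obtain ⟨hK, hIm, -, hdg⟩ := ker_im_data (k := k) hEc hF f
  haveI := finite_fibD (k := k) hdim hD hK
  haveI := finite_fibD (k := k) hdim hD hEc
  haveI := finite_fibD (k := k) hdim hD hIm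
  have h0 : kernel.ι f ≫ Abelian.factorThruImage f = 0 := by
    rw [← cancel_mono (Abelian.image.ι f), Category.assoc, Abelian.image.fac, kernel.condition, zero_comp]
  have hex : (ShortComplex.mk (kernel.ι f) (Abelian.factorThruImage f) h0).Exact :=
    (kerImSeq_shortExact f).exact
  have h2 := range_fibDMap (k := k) hdim hD (kernel.ι f) (Abelian.factorThruImage f) h0 hex hK hEc hIm
  have h3 := finrank_le_map_add (ParSh.fibDMap k X I (Abelian.factorThruImage f)) S
  rw [← h2, inf_comm, ← Submodule.map_comap_eq] at h3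
  have h4 := Submodule.finrank_map_le (ParSh.fibDMap k X I (kernel.ι f))
    (S.comap (ParSh.fibDMap k X I (kernel.ι f)))
  have h5 : Module.finrank k (S.map (ParSh.fibDMap k X I (Abelian.factorThruImage f))) ≤
      Module.finrank k (S'.comap (ParSh.fibDMap k X I (Abelian.image.ι f))) := by
    refine Submodule.finrank_mono ?_
    rintro _ ⟨x, hx, rfl⟩
    rw [Submodule.mem_comap, ← fibDMap_comp, Abelian.image.fac]
    exact hf ⟨x, hx, rfl⟩
  have h6 : (Module.finrank k S : ℝ) ≤ (Module.finrank k (S.comap (ParSh.fibDMap k X I (kernel.ι f))) : ℝ) +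
      (Module.finrank k (S'.comap (ParSh.fibDMap k X I (Abelian.image.ι f))) : ℝ) := by
    exact_mod_cast (show Module.finrank k S ≤ _ by omega)
  have h7 := mul_le_mul_of_nonneg_left h6 hα0
  simp only [gd, hdg]
  push_cast
  linarith

/-- Quotients of a semistable structure have larger slope. -/
theorem image_ge' (hα0 : 0 ≤ α) (hss : ParSh.IsGPSemistable k X I α S n) {F : X.Modules} (hF : Coh.IsCoh F)
    {S' : Submodule k (ParSh.fibD X I F)} (f : E ⟶ F) (hf : S.map (ParSh.fibDMap k X I f) ≤ S') :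
    gd α S * (genRank (Abelian.image f) : ℝ) ≤
      gd α (S'.comap (ParSh.fibDMap k X I (Abelian.image.ι f))) * (n : ℝ) := by
  obtain ⟨hK, -, hrk, -⟩ := ker_im_data (k := k) (isCoh_of_locFree hE) hF f
  rw [genRank_eq hE] at hrk
  have h1 := gd_le_ker_add_im hdim hD hE hα0 hF f hf
  have h2 := sub_le' hdim hD hE hss (kernel.ι f) hK
  have h3 := mul_le_mul_of_nonneg_right h1 (Nat.cast_nonneg (α := ℝ) n)
  have hn : (n : ℝ) = genRank (kernel f) + genRank (Abelian.image f) := by exact_mod_cast hrk
  rw [hn] at h2 h3 ⊢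
  linarith

variable {F : X.Modules} {m : ℕ} (hF : FlatMod.IsFinLocFreeOfRank m F) {S' : Submodule k (ParSh.fibD X I F)}

include hF

omit hE hD in
/-- The preimage of a torsion submodule of a cokernel. -/
theorem exists_preimage (hEc : Coh.IsCoh E) (f : E ⟶ F) {H : X.Modules} (j : H ⟶ cokernel f) [Mono j]
    (hH : Coh.IsCoh H) (h0 : genRank H = 0) :
    ∃ (P : X.Modules) (ι : P ⟶ F) (l : Abelian.image f ⟶ P), Mono ι ∧ Mono l ∧ Coh.IsCoh P ∧
      l ≫ ι = Abelian.image.ι f ∧ genRank P = genRank (Abelian.image f) ∧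
      dg k P = dg k (Abelian.image f) + dg k H := by
  haveI := CurvLib.isNoetherian k (X := X)
  have hFc := isCoh_of_locFree hF
  have hC := QCohLib.isCoh_cokernel f hEc.1 hFc
  obtain ⟨-, hIm, -, -⟩ := ker_im_data (k := k) hEc hFc f
  have hQ := QCohLib.isCoh_cokernel j hH.1 hC
  obtain ⟨hP, r1, d1⟩ := epi_data (k := k) hFc hQ (cokernel.π f ≫ cokernel.π j)
  have hS₂ : (ShortComplex.mk j (cokernel.π j) (cokernel.condition j)).ShortExact :=
    { exact := ShortComplex.exact_of_g_is_cokernel _ (cokernelIsCokernel j)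
      mono_f := inferInstanceAs (Mono j)
      epi_g := inferInstanceAs (Epi (cokernel.π j)) }
  have r2 : genRank (cokernel f) = genRank H + genRank (cokernel j) :=
    genRank_add (S := ShortComplex.mk j (cokernel.π j) (cokernel.condition j)) hS₂ hH hC hQ
  have d2 : dg k (cokernel f) = dg k H + dg k (cokernel j) :=
    dg_add (k := k) (S := ShortComplex.mk j (cokernel.π j) (cokernel.condition j)) hS₂ hH hC hQ
  have r3 : genRank F = genRank (Abelian.image f) + genRank (cokernel f) :=
    genRank_add (S := imCokSeq f) (imCokSeq_shortExact f) hIm hFc hC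
  have d3 : dg k F = dg k (Abelian.image f) + dg k (cokernel f) :=
    dg_add (k := k) (S := imCokSeq f) (imCokSeq_shortExact f) hIm hFc hC
  have hl0 : Abelian.image.ι f ≫ (cokernel.π f ≫ cokernel.π j) = 0 := by
    rw [← Category.assoc, kernel.condition, zero_comp]
  have r4 : genRank (kernel (cokernel.π f ≫ cokernel.π j)) = genRank (Abelian.image f) := by
    generalize genRank (kernel (cokernel.π f ≫ cokernel.π j)) = a at r1 ⊢
    generalize genRank (Abelian.image f) = b at r3 ⊢
    generalize genRank (cokernel f) = c at r2 r3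
    generalize genRank (cokernel j) = e at r1 r2
    generalize genRank F = g at r1 r3
    omega
  have d4 : dg k (kernel (cokernel.π f ≫ cokernel.π j)) = dg k (Abelian.image f) + dg k H := by
    generalize dg k (kernel (cokernel.π f ≫ cokernel.π j)) = a at d1 ⊢
    generalize dg k (Abelian.image f) = b at d3 ⊢
    generalize dg k (cokernel f) = c at d2 d3
    generalize dg k (cokernel j) = e at d1 d2
    generalize dg k F = g at d1 d3
    omega
  exact ⟨kernel (cokernel.π f ≫ cokernel.π j), kernel.ι _, kernel.lift _ (Abelian.image.ι f) hl0, inferInstance,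
    mono_of_mono_fac (kernel.lift_ι _ (Abelian.image.ι f) hl0), hP, kernel.lift_ι _ _ _, r4, d4⟩

/-- A parabolic map of semistable structures of the same slope has locally free cokernel. -/
theorem coker_locFree (hn : 0 < n) (hm : 0 < m) (hα0 : 0 ≤ α) (hα1 : α < 1)
    (hEss : ParSh.IsGPSemistable k X I α S n) (hFss : ParSh.IsGPSemistable k X I α S' m)
    (hμ : gd α S * (m : ℝ) = gd α S' * (n : ℝ)) (f : E ⟶ F)
    (hf : S.map (ParSh.fibDMap k X I f) ≤ S') : ∃ r₀ : ℕ, FlatMod.IsFinLocFreeOfRank r₀ (cokernel f) := by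
  haveI := CurvLib.isNoetherian k (X := X)
  have hEc := isCoh_of_locFree hE
  have hFc := isCoh_of_locFree hF
  have hC := QCohLib.isCoh_cokernel f hEc.1 hFc
  obtain ⟨-, hIm, -, -⟩ := ker_im_data (k := k) hEc hFc f
  obtain ⟨hIr, -, -, -, -⟩ := sub_data (k := k) hdim hF (Abelian.image.ι f) hIm
  refine ⟨_, rank_genRank ((Groth.Agent.S1688.result X (fun x => regular_stalk (k := k) x) hdim.le _ hC).mp
    (torsionFree_of_no_rank_zero hC fun H j hj hH h0 => ?_))⟩
  obtain ⟨hnn, heq⟩ := dg_nonneg_of_rank_zero (k := k) hdim hH h0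
  refine heq (le_antisymm ?_ hnn)
  obtain ⟨P, ι, l, hι, hl', hP, hl, hrkP, hdP⟩ := exists_preimage (k := k) hdim hF hEc f j hH h0
  obtain ⟨hPr, -, -, -, -⟩ := sub_data (k := k) hdim hF ι hP
  rw [hrkP] at hPr
  have hmap : (S'.comap (ParSh.fibDMap k X I (Abelian.image.ι f))).map (ParSh.fibDMap k X I l) ≤
      S'.comap (ParSh.fibDMap k X I ι) := by
    rintro _ ⟨x, hx, rfl⟩
    rw [Submodule.mem_comap, ← fibDMap_comp, hl]
    exact hx
  have h1 := gd_le_of_mono hdim hD hα0 hIr hPr l hmap
  have h2 := sub_le' hdim hD hF hFss ι hP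
  have h3 := image_ge' hdim hD hE hα0 hEss hFc f hf
  rw [hdP] at h1
  push_cast at h1
  rw [hrkP] at h2
  have hm' : (0 : ℝ) < m := by exact_mod_cast hm
  have hn' : (0 : ℝ) < n := by exact_mod_cast hn
  generalize gd α (S'.comap (ParSh.fibDMap k X I ι)) = gP at h1 h2
  generalize gd α (S'.comap (ParSh.fibDMap k X I (Abelian.image.ι f))) = gI at h1 h3
  generalize gd α S = gE at hμ h3
  generalize gd α S' = gF at hμ h2
  generalize (genRank (Abelian.image f) : ℝ) = r at h2 h3
  generalize (dg k (Abelian.image f) : ℝ) = di at h1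
  have h4 : gF * r ≤ gI * m := by
    refine le_of_mul_le_mul_right ?_ hn'
    calc gF * r * n = gE * r * m := by linear_combination -r * hμ
      _ ≤ gI * n * m := mul_le_mul_of_nonneg_right h3 hm'.le
      _ = _ := by ring
  have h5 := mul_le_mul_of_nonneg_right h1 hm'.le
  have h6 : (1 - α) * (dg k H : ℝ) * m ≤ 0 := by linarith
  have h7 : (dg k H : ℝ) ≤ 0 := nonpos_of_mul_nonpos_right (nonpos_of_mul_nonpos_left h6 hm') (by linarith)
  exact_mod_cast h7

/-- A nonzero parabolic map of stable structures of the same slope is an isomorphism. -/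
theorem stable_hom (hn : 0 < n) (hm : 0 < m) (hα0 : 0 ≤ α) (hα1 : α < 1)
    (hEst : ParSh.IsGPStable k X I α S n) (hFss : ParSh.IsGPSemistable k X I α S' m)
    (hFst : ParSh.IsGPStable k X I α S' m) (hμ : gd α S * (m : ℝ) = gd α S' * (n : ℝ)) (f : E ⟶ F)
    (hf : S.map (ParSh.fibDMap k X I f) ≤ S') :
    f = 0 ∨ (IsIso f ∧ (0 < α → S.map (ParSh.fibDMap k X I f) = S')) := by
  rw [or_iff_not_imp_left]
  intro hf0
  have hEc := isCoh_of_locFree hE
  have hFc := isCoh_of_locFree hF
  obtain ⟨hK, hIm, hrk, -⟩ := ker_im_data (k := k) hEc hFc f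
  rw [genRank_eq hE] at hrk
  obtain ⟨hKr, -, -, -, hzK⟩ := sub_data (k := k) hdim hE (kernel.ι f) hK
  obtain ⟨hIr, -, -, -, hzI⟩ := sub_data (k := k) hdim hF (Abelian.image.ι f) hIm
  have hI0 : 0 < genRank (Abelian.image f) := Nat.pos_of_ne_zero fun h0 => hf0 (by
    rw [← Abelian.image.fac f, (hzI h0).eq_of_src (Abelian.image.ι f) 0, comp_zero])
  have hm' : (0 : ℝ) < m := by exact_mod_cast hm
  have hn' : (0 : ℝ) < n := by exact_mod_cast hn
  have h1 := gd_le_ker_add_im hdim hD hE hα0 hFc f hf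
  have h2 := sub_le' hdim hD hF hFss (Abelian.image.ι f) hIm
  have hK0 : genRank (kernel f) = 0 := by
    by_contra hne
    have h3 := hEst (kernel f) (genRank (kernel f)) (kernel.ι f) inferInstance (Nat.pos_of_ne_zero hne)
      (by omega) hKr
    rw [gpDeg_eq hKr, gpDeg_eq hE] at h3
    change gd α (S.comap (ParSh.fibDMap k X I (kernel.ι f))) * (n : ℝ) < _ at h3
    have e : (n : ℝ) = genRank (kernel f) + genRank (Abelian.image f) := by exact_mod_cast hrk
    have h4 : gd α S * (genRank (Abelian.image f) : ℝ) <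
        gd α (S'.comap (ParSh.fibDMap k X I (Abelian.image.ι f))) * (n : ℝ) := by
      have := mul_le_mul_of_nonneg_right h1 hn'.le
      rw [e] at this h3 ⊢
      linarith
    have h5 := mul_lt_mul_of_pos_right h4 hm'
    have h6 := mul_le_mul_of_nonneg_right h2 hn'.le
    have h7 : gd α S * (genRank (Abelian.image f) : ℝ) * m = gd α S' * (genRank (Abelian.image f) : ℝ) * n := by
      linear_combination (genRank (Abelian.image f) : ℝ) * hμ
    linarith
  haveI : Mono f := Preadditive.mono_of_cancel_zero _ fun g hg => by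
    rw [← kernel.lift_ι f g hg, (hzK hK0).eq_of_tgt (kernel.lift f g hg) 0, zero_comp]
  obtain ⟨-, -, hrkF, -, -⟩ := sub_data (k := k) hdim hF f hEc
  rw [genRank_eq hE] at hrkF
  by_cases hlt : n < m
  · exfalso
    have h3 := hFst E n f inferInstance hn hlt hE
    rw [gpDeg_eq hE, gpDeg_eq hF] at h3
    haveI := finite_fibD (k := k) hdim hD hEc
    have h4 : Module.finrank k S ≤ Module.finrank k (S'.comap (ParSh.fibDMap k X I f)) :=
      Submodule.finrank_mono (Submodule.map_le_iff_le_comap.1 hf)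
    have h5 : gd α S ≤ gd α (S'.comap (ParSh.fibDMap k X I f)) :=
      add_le_add le_rfl (mul_le_mul_of_nonneg_left (by exact_mod_cast h4) hα0)
    have h6 := mul_le_mul_of_nonneg_right h5 hm'.le
    change gd α (S'.comap (ParSh.fibDMap k X I f)) * (m : ℝ) < _ at h3
    linarith
  · obtain rfl : n = m := by omega
    exact (gd_mono_eq_iff hdim hD hα0 hα1 hE hF f hf).2.1 (mul_right_cancel₀ hn'.ne' hμ)

end ParGPLib

end
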